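import Groth.Agent.EtPbc.PointSupp
import Groth.Agent.EtaleBase.StrictVanish
import Groth.Agent.EtaleBase.SitePoints
import Groth.Agent.EtaleBase.Rigidity
import Groth.Agent.EtaleBase.NormalStalk

/-!
# Sheaves supported at closed points are detected by their global sections
-/

set_option autoImplicit false
set_option linter.style.haveILetI false
set_option backward.isDefEq.respectTransparency.types false
set_option maxHeartbeats 1000000

universe u

open CategoryTheory CategoryTheory.Limits AlgebraicGeometry Opposite TopologicalSpace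

namespace Groth.EtPbc.LeftComplete

open Groth.EtaleBase Groth.EtaleBase.LocConst Groth.EtaleBase.SitePt Groth.EtPbc.PointSupp

/-- Over a strictly henselian base, sheaves on a discrete integral scheme vanish with their global sections. -/
theorem isZero_of_subsingleton_top {R : Type u} [CommRing R] [HenselianLocalRing R]
    [IsSepClosed (IsLocalRing.ResidueField R)] {Z : Scheme.{u}} (f : Z ⟶ Spec (CommRingCat.of R))
    [IsIntegralHom f] [DiscreteTopology Z] (G : EtCoh.Ab Z)
    (hG : Subsingleton (G.obj.obj (op (EtCoh.top Z)))) : IsZero G := by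
  classical
  rw [IsZero.iff_id_eq_zero]
  refine stalkAt_jointlyReflectIsomorphisms.jointlyFaithful.map_injective fun v => ?_
  haveI : Subsingleton ((EtCoh.stalk (geomPoint v)).obj G) := subsingleton_of_forall_eq 0 fun y => by
    obtain ⟨U, t, σ, rfl⟩ := germ_surjective (geomPoint v) G y
    set z : Z := U.hom.base (fiberPoint (geomPoint v) t) with hz
    haveI : AlgebraicGeometry.Etale U.hom := U.prop
    have hopen : IsOpen ({fiberPoint (geomPoint v) t} : Set U.left) := by
      have hd := U.hom.isDiscrete_preimage_singleton z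
      haveI : DiscreteTopology ↥(U.hom.base ⁻¹' {z}) := hd.to_subtype
      have h2 : IsOpen ({⟨fiberPoint (geomPoint v) t, rfl⟩} : Set ↥(U.hom.base ⁻¹' {z})) := isOpen_discrete _
      have h3 := ((isOpen_discrete ({z} : Set Z)).preimage U.hom.continuous).isOpenMap_subtype_val _ h2
      simpa using h3
    let O : U.left.Opens := ⟨_, hopen⟩
    obtain ⟨t', ht'⟩ := exists_lift_open (geomPoint v) O t rfl
    rw [← ht', ← germ_res (geomPoint v) G (openHom U O) t' σ]
    -- split the covering by the point of `U` and the complement of its image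
    let Zc : Z.Opens := ⟨{z}ᶜ, isOpen_discrete _⟩
    let Us : ULift.{u} Bool → Scheme.{u} := fun b => cond b.down (O : Scheme.{u}) (Zc : Scheme.{u})
    let gs : ∀ b, Us b ⟶ Z := fun b => match b with
      | ⟨true⟩ => O.ι ≫ U.hom
      | ⟨false⟩ => Zc.ι
    obtain ⟨W, h, hd, hsup, hW⟩ := exists_splitting f Us gs
      (fun b => match b with
        | ⟨true⟩ => inferInstanceAs (Etale (O.ι ≫ U.hom))
        | ⟨false⟩ => inferInstanceAs (Etale Zc.ι))
      fun x => by
        by_cases hx : x = z
        · refine ⟨⟨true⟩, ⟨_, rfl⟩, ?_⟩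
          exact hx.symm
        · exact ⟨⟨false⟩, ⟨x, hx⟩, rfl⟩
    have hWt : ∀ x ∈ W ⟨true⟩, x = z := fun x hx => by
      have h1 : (O.ι ≫ U.hom).base ((h ⟨true⟩).base ⟨x, hx⟩) = x :=
        congrArg (fun m => m.base (⟨x, hx⟩ : W ⟨true⟩)) (hW ⟨true⟩)
      rw [← h1, Scheme.Hom.comp_apply]
      have h2 : O.ι.base ((h ⟨true⟩).base ⟨x, hx⟩) = fiberPoint (geomPoint v) t :=
        Set.mem_singleton_iff.1 ((h ⟨true⟩).base ⟨x, hx⟩).2
      exact congrArg U.hom.base h2
    have hzW : z ∈ W ⟨true⟩ := by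
      obtain ⟨⟨b⟩, hb⟩ := Opens.mem_iSup.1 (hsup.symm ▸ Opens.mem_top z)
      cases b
      · exfalso
        have h1 : Zc.ι.base ((h ⟨false⟩).base ⟨z, hb⟩) = z :=
          congrArg (fun m => m.base (⟨z, hb⟩ : W ⟨false⟩)) (hW ⟨false⟩)
        exact ((h ⟨false⟩).base ⟨z, hb⟩).2 h1
      · exact hb
    -- the piece of `U` maps isomorphically to the piece of `Z`
    let T : Z.Etale := openObj (EtCoh.top Z) (W ⟨true⟩)
    obtain ⟨g', hg'⟩ : ∃ g' : (O : Scheme.{u}) ⟶ (W ⟨true⟩ : Scheme.{u}),
        g' ≫ (W ⟨true⟩).ι = (O.ι ≫ U.hom : (O : Scheme.{u}) ⟶ Z) :=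
      ⟨IsOpenImmersion.lift (W ⟨true⟩).ι _ (by
        rw [Scheme.Opens.range_ι]
        rintro _ ⟨p, rfl⟩
        have : O.ι.base p = fiberPoint (geomPoint v) t := Set.mem_singleton_iff.1 p.2
        rw [Scheme.Hom.comp_apply, this]
        exact hzW), IsOpenImmersion.lift_fac _ _ _⟩
    let r : openObj U O ⟶ T := MorphismProperty.Over.homMk g' (by
      show g' ≫ (W ⟨true⟩).ι ≫ 𝟙 Z = O.ι ≫ U.hom
      rw [Category.comp_id, hg'])
    let q : T ⟶ openObj U O := MorphismProperty.Over.homMk (h ⟨true⟩) (by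
      show h ⟨true⟩ ≫ O.ι ≫ U.hom = (W ⟨true⟩).ι ≫ 𝟙 Z
      rw [Category.comp_id]
      exact hW ⟨true⟩)
    have hqr : (h ⟨true⟩) ≫ g' = 𝟙 _ := by
      rw [← cancel_mono (W ⟨true⟩).ι, Category.assoc, hg', Category.id_comp]
      exact hW ⟨true⟩
    haveI : Etale g' := (inferInstance : Etale r.left)
    haveI : IsOpenImmersion (h ⟨true⟩) := isOpenImmersion_section g' _ hqr
    haveI : Surjective (h ⟨true⟩) := ⟨fun p => ⟨⟨z, hzW⟩, Subtype.ext
      ((Set.mem_singleton_iff.1 ((h ⟨true⟩).base ⟨z, hzW⟩).2).trans (Set.mem_singleton_iff.1 p.2).symm)⟩⟩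
    haveI : Epi (h ⟨true⟩).base := (TopCat.epi_iff_surjective _).2 (h ⟨true⟩).surjective
    haveI : IsIso (h ⟨true⟩) := IsOpenImmersion.isIso (h ⟨true⟩)
    have hrq : g' ≫ h ⟨true⟩ = 𝟙 _ := by
      rw [← cancel_epi (h ⟨true⟩), reassoc_of% hqr]
      exact (Category.comp_id _).symm
    have h0 : G.obj.map q.op (G.obj.map (openHom U O).op σ) = 0 := by
      obtain ⟨s, hs⟩ := exists_glue_disjoint (EtCoh.top Z) W hd hsup G fun b =>
        match b with
        | ⟨true⟩ => G.obj.map q.op (G.obj.map (openHom U O).op σ)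
        | ⟨false⟩ => 0
      refine (hs ⟨true⟩).symm.trans ?_
      rw [Subsingleton.elim s 0, map_zero]
    have h1 : G.obj.map (openHom U O).op σ = 0 := by
      have h2 := congrArg (G.obj.map r.op) h0
      rwa [map_zero, ← Functor.map_comp_apply, ← op_comp, show r ≫ q = 𝟙 _ from
        MorphismProperty.Over.Hom.ext hrq, op_id, Functor.map_id_apply] at h2
    rw [h1, map_zero]
  exact (AddCommGrpCat.isZero_of_subsingleton ((EtCoh.stalk (geomPoint v)).obj G)).eq_of_src _ _

variable {X : Scheme.{u}}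

/-- A sheaf supported at closed points of a finite type scheme over a separably closed field vanishes if
it has no global sections. -/
theorem isZero_of_hom_const_eq_zero {k : Type u} [Field k] [IsSepClosed k] (a : X ⟶ Spec (CommRingCat.of k))
    [LocallyOfFiniteType a] [QuasiCompact a] (F : EtCoh.Ab X)
    (hF : ∀ x ∈ EtPBC.supp F, IsClosed ({x} : Set X)) (h : ∀ φ : EtCoh.const X ℤ ⟶ F, φ = 0) :
    IsZero F := by
  haveI : IsLocallyNoetherian X := LocallyOfFiniteType.isLocallyNoetherian a
  obtain ⟨hc⟩ := nonempty_isColimit_cocone F hF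
  rw [IsZero.iff_id_eq_zero]
  refine hc.hom_ext fun T => ?_
  suffices IsZero ((PointSupp.diag F).obj T) from this.eq_of_src _ _
  let i := (Scheme.IdealSheafData.vanishingIdeal (clos T)).subschemeι
  have hi : Set.range i.base = (clos T : Set X) := by
    rw [Scheme.IdealSheafData.range_subschemeι, Scheme.IdealSheafData.coe_support_vanishingIdeal]
  obtain ⟨G, ⟨e⟩⟩ := (essImage_push_iff i (suppPart (clos T) F)).2 (hi.symm ▸ supp_suppPart (clos T) F)
  haveI : Finite (Scheme.IdealSheafData.vanishingIdeal (clos T)).subscheme := by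
    have : Finite ↥(Set.range i.base) := (hi.symm ▸ finite_clos T : (Set.range i.base).Finite).to_subtype
    exact Finite.of_injective (Set.rangeFactorization i.base)
      fun p p' h => i.isClosedEmbedding.injective (congrArg Subtype.val h :)
  haveI := LocallyOfFiniteType.jacobsonSpace (i ≫ a)
  haveI : DiscreteTopology (Scheme.IdealSheafData.vanishingIdeal (clos T)).subscheme := inferInstance
  haveI : IsFinite (i ≫ a) := by
    haveI := (Groth.PropsBasic2.finite_carrier _ k (i ≫ a) inferInstance).1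
    haveI := LocallyQuasiFinite.of_finite_preimage_singleton (i ≫ a) fun y => Set.toFinite _
    exact IsFinite.of_locallyQuasiFinite (i ≫ a)
  haveI : IsSepClosed (IsLocalRing.ResidueField k) := by
    let e₀ : k ≃+* IsLocalRing.ResidueField k := RingEquiv.ofBijective (IsLocalRing.residue k)
      ⟨(IsLocalRing.residue k).injective, IsLocalRing.residue_surjective⟩
    exact Groth.EtaleBase.NormalEt.isSepClosed_of_ringEquiv e₀
  have hφ : ∀ ψ : EtCoh.const X ℤ ⟶ (EtCoh.push i).obj G, ψ = 0 := fun ψ => by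
    have h1 := h (ψ ≫ e.hom ≫ (cocone F).ι.app T)
    haveI : Mono ((cocone F).ι.app T) := inferInstanceAs (Mono (kernel.ι _))
    haveI : Mono (e.hom ≫ (cocone F).ι.app T) := mono_comp' inferInstance ‹_›
    exact (cancel_mono (e.hom ≫ (cocone F).ι.app T)).1 (h1.trans zero_comp.symm)
  have hψ : ∀ ψ : EtCoh.const (Scheme.IdealSheafData.vanishingIdeal (clos T)).subscheme ℤ ⟶ G, ψ = 0 := fun ψ => by
    rw [← cancel_epi (EtCore.pullConst i ℤ).hom, comp_zero]
    apply ((EtCoh.pullPushAdj i).homEquiv _ _).injective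
    exact (hφ _).trans (hφ _).symm
  have hZ : IsZero G := isZero_of_subsingleton_top (i ≫ a) G (subsingleton_of_forall_eq 0 fun s => by
    let φ : AddCommGrpCat.of (ULift.{u + 1} ℤ) ⟶ (EtCore.gsec _).obj G :=
      AddCommGrpCat.ofHom ((zmultiplesHom _ s).comp AddEquiv.ulift.toAddMonoidHom)
    have h2 : φ = 0 := ((EtCore.constAdj _).homEquiv _ G).symm.injective ((hψ _).trans (hψ _).symm)
    have h3 : φ ⟨(1 : ℤ)⟩ = 0 := by rw [h2]; rfl
    exact (one_zsmul s).symm.trans h3)
  exact ((EtCoh.push i).map_isZero hZ).of_iso e.symm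

end Groth.EtPbc.LeftComplete
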