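import Groth.Agent.EtPbc.LeftComplete.Generic
import Groth.Agent.EtPbc.LeftComplete.Closed
import Groth.Agent.EtaleBase.InjCoh

/-!
# The étale test objects for left completeness
-/

set_option autoImplicit false
set_option linter.style.haveILetI false
set_option backward.isDefEq.respectTransparency.types false
set_option maxHeartbeats 1000000

universe u

open CategoryTheory CategoryTheory.Limits CategoryTheory.Abelian AlgebraicGeometry Opposite TopologicalSpace

namespace Groth.EtPbc.LeftComplete

open Groth.EtaleBase Groth.EtaleBase.LocConst Groth.EtaleBase.SitePt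

attribute [local instance] InjCoh.jCont

variable {X : Scheme.{u}}

/-- Affine objects of the small étale site. -/
abbrev AffEt (X : Scheme.{u}) : Type (u + 1) := {V : X.Etale // IsAffine V.left}

/-- The free sheaf on an affine object. -/
noncomputable def gen (V : AffEt X) : EtCoh.Ab X :=
  haveI : AlgebraicGeometry.Etale V.1.hom := V.1.prop
  (EtShriek.extZero (U := V.1.left) (X := X) V.1.hom).obj (EtCoh.const V.1.left ℤ)

lemma eq_zero_of_gen {M N : EtCoh.Ab X} (g : M ⟶ N) (h : ∀ (V : AffEt X) (z : gen V ⟶ M), z ≫ g = 0) :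
    g = 0 := by
  refine stalkAt_jointlyReflectIsomorphisms.jointlyFaithful.map_injective fun v => ?_
  ext y
  obtain ⟨U, t, σ, rfl⟩ := germ_surjective (geomPoint v) M y
  obtain ⟨_, ⟨W, hW, rfl⟩, htW, -⟩ := U.left.isBasis_affineOpens.exists_subset_of_mem_open
    (Set.mem_univ (fiberPoint (geomPoint v) t)) isOpen_univ
  obtain ⟨t', ht'⟩ := exists_lift_open (geomPoint v) W t htW
  let V : AffEt X := ⟨openObj U W, hW⟩
  haveI : AlgebraicGeometry.Etale V.1.hom := V.1.prop
  let j : V.1.left ⟶ X := V.1.hom
  -- the section as a map out of the free sheaf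
  let ι : (EtShriek.compEtale j).obj (EtCoh.top V.1.left) ≅ V.1 :=
    MorphismProperty.Over.isoMk (Iso.refl _) (by
      show 𝟙 _ ≫ j = 𝟙 _ ≫ j
      rfl)
  let τ := M.obj.map (openHom U W).op σ
  let s : (EtCore.gsec _).obj ((EtShriek.restrAlong j).obj M) := M.obj.map ι.hom.op τ
  let φ : AddCommGrpCat.of (ULift.{u + 1} ℤ) ⟶ (EtCore.gsec _).obj ((EtShriek.restrAlong j).obj M) :=
    AddCommGrpCat.ofHom ((zmultiplesHom _ s).comp AddEquiv.ulift.toAddMonoidHom)
  let ψ : EtCoh.const V.1.left ℤ ⟶ (EtShriek.restrAlong j).obj M :=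
    ((EtCore.constAdj _).homEquiv _ _).symm φ
  have h1 : ψ ≫ (EtShriek.restrAlong j).map g = 0 := by
    have h0 : ((EtShriek.extZeroAdj j).homEquiv _ _).symm ψ ≫ g = 0 := h V _
    have h0' := congrArg ((EtShriek.extZeroAdj j).homEquiv _ _) h0
    rw [Adjunction.homEquiv_naturality_right, Equiv.apply_symm_apply] at h0'
    rw [h0', Adjunction.homEquiv_unit, Functor.map_zero, comp_zero]
  have h2 : φ ≫ (EtCore.gsec _).map ((EtShriek.restrAlong j).map g) = 0 := by
    have h0 := congrArg ((EtCore.constAdj V.1.left).homEquiv _ _) h1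
    rw [Adjunction.homEquiv_naturality_right] at h0
    change ((EtCore.constAdj V.1.left).homEquiv _ _) (((EtCore.constAdj V.1.left).homEquiv _ _).symm φ) ≫ _ = _ at h0
    rw [Equiv.apply_symm_apply] at h0
    rw [h0, Adjunction.homEquiv_unit, Functor.map_zero, comp_zero]
  have h3 : g.hom.app (op ((EtShriek.compEtale j).obj (EtCoh.top V.1.left))) s = 0 := by
    have h0 : (φ ≫ (EtCore.gsec _).map ((EtShriek.restrAlong j).map g)) ⟨(1 : ℤ)⟩ = 0 := by rw [h2]; rfl
    have h4 : φ ⟨(1 : ℤ)⟩ = s := one_zsmul s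
    exact (congrArg (fun z => g.hom.app (op ((EtShriek.compEtale j).obj (EtCoh.top V.1.left))) z) h4).symm.trans h0
  have h5 : g.hom.app (op V.1) τ = 0 := by
    have h0 : N.obj.map ι.hom.op (g.hom.app (op V.1) τ) = 0 :=
      (NatTrans.naturality_apply g.hom ι.hom.op τ).symm.trans h3
    have h4 := congrArg (N.obj.map ι.inv.op) h0
    rwa [map_zero, ← Functor.map_comp_apply, ← op_comp, ι.inv_hom_id, op_id, Functor.map_id_apply] at h4
  rw [← ht', ← germ_res (geomPoint v) M (openHom U W) t' σ]
  refine (germ_map _ _ _ _ _).trans ((congrArg _ h5).trans ?_)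
  rw [map_zero, Functor.map_zero]
  rfl

/-- Free sheaves on affines have no higher extensions into sheaves supported at closed points. -/
theorem noExt_gen {k : Type u} [Field k] [IsSepClosed k] (a : X ⟶ Spec (CommRingCat.of k))
    [LocallyOfFiniteType a] [QuasiCompact a] (F : EtCoh.Ab X)
    (hF : ∀ x ∈ EtPBC.supp F, IsClosed ({x} : Set X)) (V : AffEt X) :
    Groth.AlgSpRlim.NoExt.{u + 1} (gen V) F := fun n => by
  haveI : AlgebraicGeometry.Etale V.1.hom := V.1.prop
  haveI := V.2
  let j : V.1.left ⟶ X := V.1.hom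
  haveI := (EtShriek.extZeroAdj j).isLeftAdjoint
  haveI := extZero_preservesFiniteLimits j
  haveI : PreservesColimitsOfSize.{0, 0} (EtShriek.extZero j) := (EtShriek.extZeroAdj j).leftAdjoint_preservesColimits
  haveI : PreservesFiniteColimits (EtShriek.extZero j) := PreservesColimitsOfSize.preservesFiniteColimits _
  haveI : (EtShriek.extZero j).Additive := Functor.additive_of_preserves_binary_products _
  haveI : PreservesLimitsOfSize.{0, 0} (EtShriek.restrAlong j) := (EtShriek.extZeroAdj j).rightAdjoint_preservesLimits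
  haveI : PreservesFiniteLimits (EtShriek.restrAlong j) := PreservesLimitsOfSize.preservesFiniteLimits _
  haveI : PreservesColimitsOfSize.{0, 0} (EtShriek.restrAlong j) := (restrPushAdj j).leftAdjoint_preservesColimits
  haveI : PreservesFiniteColimits (EtShriek.restrAlong j) := PreservesColimitsOfSize.preservesFiniteColimits _
  haveI : (EtShriek.restrAlong j).Additive := Functor.additive_of_preserves_binary_products _
  have hb := ExtAdj.adjExt_bijective_of_exact (EtShriek.extZeroAdj j) (EtCoh.const V.1.left ℤ) F (n + 1)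
  haveI : QuasiCompact (j ≫ a) := inferInstance
  haveI : Subsingleton (EtCoh.H V.1.left ((EtShriek.restrAlong j).obj F) (n + 1)) := by
    refine PointSupp.subsingleton_H (j ≫ a) _ (fun u hu => ?_) (n + 1) n.succ_pos
    obtain ⟨Ω, _, _, ξ, hξ, hne⟩ := hu
    have hmem : j.base u ∈ EtPBC.supp F := by
      refine ⟨Ω, _, inferInstance, ξ ≫ j, ?_, fun hz => hne (hz.of_iso ((stalkRestrIso j ξ).app F).symm)⟩
      rw [← Set.image_singleton (f := j.base), ← hξ, ← Set.range_comp]
      rfl
    have hd := j.isDiscrete_preimage_singleton (j.base u)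
    have : DiscreteTopology ↥(j.base ⁻¹' {j.base u}) := hd.to_subtype
    have h1 := (isClosed_discrete ({⟨u, rfl⟩} : Set ↥(j.base ⁻¹' {j.base u})))
    simpa using ((hF _ hmem).preimage j.continuous).isClosedMap_subtype_val _ h1
  exact hb.2.subsingleton

end Groth.EtPbc.LeftComplete
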