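import Groth.Agent.AlgSpRlim.Bounded
import Groth.Agent.DerivedCoh.KInj.Products

/-!
# Morphisms into unbounded complexes whose cohomology has no higher extensions

Let `A` be a Grothendieck abelian category and `G` a separating family.  If the cohomology objects of `K`
have no higher extensions from `P` and from the members of `G`, then `Hom(P[-q], K) = Hom(P, H^q K)`:
`K` is the derived limit of its truncations.
-/

set_option autoImplicit false
set_option backward.isDefEq.respectTransparency false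
set_option linter.style.haveILetI false
set_option maxHeartbeats 1000000

universe w' w v u t

open CategoryTheory CategoryTheory.Limits Pretriangulated Abelian Triangulated DerivedCategory
open Groth.AlgSpRlim (hMap hMap_comp hMap_precomp NoExt bijective_hMap_of_isGE exists_epi_liftable)

namespace Groth.EtPbc.LeftComplete

variable {A : Type u} [Category.{v} A] [Abelian A] [HasDerivedCategory.{w} A]

section Tower

variable (K₀ : DerivedCategory A)

/-- The truncations. -/
noncomputable abbrev tau (n : ℕ) : DerivedCategory A :=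
  ((TStructure.t : TStructure (DerivedCategory A)).truncGE (-(n : ℤ))).obj K₀

/-- The truncation morphisms. -/
noncomputable abbrev pr (n : ℕ) : K₀ ⟶ tau K₀ n :=
  ((TStructure.t : TStructure (DerivedCategory A)).truncGEπ (-(n : ℤ))).app K₀

/-- The transition morphisms of the truncations. -/
noncomputable abbrev tr (n : ℕ) : tau K₀ (n + 1) ⟶ tau K₀ n :=
  ((TStructure.t : TStructure (DerivedCategory A)).natTransTruncGEOfLE (-((n + 1 : ℕ) : ℤ)) (-(n : ℤ))
    (Int.neg_le_neg (Int.ofNat_le.mpr (Nat.le_succ n)))).app K₀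

lemma pr_tr (n : ℕ) : pr K₀ (n + 1) ≫ tr K₀ n = pr K₀ n :=
  TStructure.π_natTransTruncGEOfLE_app _ _ _ _ _

instance isGE_tau (n : ℕ) : (tau K₀ n).IsGE (-(n : ℤ)) :=
  inferInstanceAs (TStructure.t.IsGE (((TStructure.t : TStructure (DerivedCategory A)).truncGE (-(n : ℤ))).obj K₀) _)

lemma isIso_homology_pr {n : ℕ} {q : ℤ} (h : -(n : ℤ) ≤ q) : IsIso ((homologyFunctor A q).map (pr K₀ n)) := by
  let T := ((TStructure.t : TStructure (DerivedCategory A)).triangleLTGE (-(n : ℤ))).obj K₀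
  have hT : T ∈ distTriang _ := TStructure.t.triangleLTGE_distinguished _ K₀
  haveI h1 : DerivedCategory.IsLE T.obj₁ (-(n : ℤ) - 1) :=
    inferInstanceAs (TStructure.t.IsLE (((TStructure.t : TStructure (DerivedCategory A)).triangleLTGE (-(n : ℤ))).obj K₀).obj₁ _)
  haveI : Mono ((homologyFunctor A q).map T.mor₂) := (HomologySequence.mono_homologyMap_mor₂_iff T hT q).2
    ((T.obj₁.isZero_of_isLE (-(n : ℤ) - 1) q (by omega)).eq_of_src _ _)
  haveI : Epi ((homologyFunctor A q).map T.mor₂) := (HomologySequence.epi_homologyMap_mor₂_iff T hT q (q + 1) rfl).2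
    ((T.obj₁.isZero_of_isLE (-(n : ℤ) - 1) (q + 1) (by omega)).eq_of_tgt _ _)
  exact isIso_of_mono_of_epi ((homologyFunctor A q).map T.mor₂)

variable [HasExt.{w'} A] (P : A) (hP : ∀ i, NoExt.{w'} P ((homologyFunctor A i).obj K₀))
include hP

lemma bijective_hMap_tau (n : ℕ) (q : ℤ) : Function.Bijective (hMap P q (tau K₀ n)) := by
  refine bijective_hMap_of_isGE P q ((q + n).toNat + 1) (-(n : ℤ)) (tau K₀ n) (by omega) fun i => ?_
  by_cases hi : -(n : ℤ) ≤ i
  · haveI := isIso_homology_pr K₀ hi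
    exact (hP i).of_iso (asIso ((homologyFunctor A i).map (pr K₀ n)))
  · exact NoExt.of_isZero ((tau K₀ n).isZero_of_isGE (-(n : ℤ)) i (by omega))

lemma exists_comp_tr_eq (n : ℕ) (q : ℤ) (y : (singleFunctor A q).obj P ⟶ tau K₀ n) :
    ∃ x : (singleFunctor A q).obj P ⟶ tau K₀ (n + 1), x ≫ tr K₀ n = y := by
  by_cases hq : -(n : ℤ) ≤ q
  · haveI := isIso_homology_pr K₀ hq
    obtain ⟨x, hx⟩ := (bijective_hMap_tau K₀ P hP (n + 1) q).2
      (hMap P q _ y ≫ inv ((homologyFunctor A q).map (pr K₀ n)) ≫ (homologyFunctor A q).map (pr K₀ (n + 1)))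
    refine ⟨x, (bijective_hMap_tau K₀ P hP n q).1 ((hMap_comp x (tr K₀ n)).trans ?_)⟩
    rw [hx, Category.assoc, Category.assoc, ← Functor.map_comp, pr_tr, IsIso.inv_hom_id, Category.comp_id]
  · exact ⟨0, (bijective_hMap_tau K₀ P hP n q).1
      (((tau K₀ n).isZero_of_isGE (-(n : ℤ)) q (by omega)).eq_of_tgt _ _)⟩

lemma exists_solve (q : ℤ) (g : ∀ n, (singleFunctor A q).obj P ⟶ tau K₀ n) :
    ∃ g' : ∀ n, (singleFunctor A q).obj P ⟶ tau K₀ n, ∀ n, g n = g' n - g' (n + 1) ≫ tr K₀ n := by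
  have step : ∀ n (x : (singleFunctor A q).obj P ⟶ tau K₀ n), ∃ x', x' ≫ tr K₀ n = x - g n :=
    fun n x => exists_comp_tr_eq K₀ P hP n q (x - g n)
  choose f hf using step
  exact ⟨fun n => Nat.rec 0 (fun m x => f m x) n, fun n => by
    show g n = _ - f n _ ≫ tr K₀ n
    rw [hf, sub_sub_cancel]⟩

variable {K₀ P} [HasProduct (tau K₀)] {L : DerivedCategory A} (a : L ⟶ ∏ᶜ tau K₀)
  (c : (∏ᶜ tau K₀) ⟶ L⟦(1 : ℤ)⟧)
  (hdist : Triangle.mk a
    (Pi.lift fun n : ℕ => Pi.π (tau K₀) n - Pi.π (tau K₀) (n + 1) ≫ tr K₀ n) c ∈ distTriang _)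

include hdist

lemma lim_inj {q : ℤ} (ξ : (singleFunctor A q).obj P ⟶ L) (hξ : ∀ n, ξ ≫ a ≫ Pi.π (tau K₀) n = 0) :
    ξ = 0 := by
  have h0 : ξ ≫ a = 0 := Pi.hom_ext _ _ fun n => by rw [Category.assoc, hξ, zero_comp]
  obtain ⟨g, hg⟩ := Triangle.coyoneda_exact₁ _ hdist (ξ⟦(1 : ℤ)⟧') (by
    rw [Triangle.mk_mor₁, ← Functor.map_comp, h0, Functor.map_zero])
  let σ : ((singleFunctor A q).obj P)⟦(1 : ℤ)⟧ ≅ (singleFunctor A (q - 1)).obj P :=
    ((singleFunctors A).shiftIso 1 (q - 1) q (by omega)).app P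
  obtain ⟨g', hg'⟩ := exists_solve K₀ P hP (q - 1) fun n => σ.inv ≫ g ≫ Pi.π (tau K₀) n
  have hg2 : g = (σ.hom ≫ Pi.lift g') ≫
      Pi.lift (fun n : ℕ => Pi.π (tau K₀) n - Pi.π (tau K₀) (n + 1) ≫ tr K₀ n) := by
    refine Pi.hom_ext _ _ fun n => ?_
    rw [← cancel_epi σ.inv, hg' n]
    simp
  have h1 : ξ⟦(1 : ℤ)⟧' = 0 := by
    rw [hg, hg2]
    exact (Category.assoc _ _ _).trans
      ((congrArg (_ ≫ ·) (comp_distTriang_mor_zero₂₃ _ hdist)).trans comp_zero)
  exact (shiftFunctor (DerivedCategory A) (1 : ℤ)).map_injective (h1.trans (Functor.map_zero _ _ _).symm)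

omit hP

omit [HasExt.{w'} A] in
lemma comp_tr (n : ℕ) : (a ≫ Pi.π (tau K₀) (n + 1)) ≫ tr K₀ n = a ≫ Pi.π (tau K₀) n := by
  have h := congrArg (· ≫ Pi.π (tau K₀) n) (comp_distTriang_mor_zero₁₂ _ hdist)
  simp only [Triangle.mk_mor₁, Triangle.mk_mor₂, Category.assoc, Pi.lift_π, zero_comp,
    Preadditive.comp_sub, sub_eq_zero] at h
  rw [Category.assoc, ← h]

omit P
/-- Cohomology of the limit injects into cohomology of a far enough truncation. -/
lemma mono_homology_pr {ι : Type t} (G : ι → A)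
    (hG : ∀ {M N : A} (g : M ⟶ N), (∀ j (z : G j ⟶ M), z ≫ g = 0) → g = 0)
    (hGK : ∀ j i, NoExt.{w'} (G j) ((homologyFunctor A i).obj K₀)) {q : ℤ} {N : ℕ} (hN : -(N : ℤ) ≤ q) :
    Mono ((homologyFunctor A q).map (a ≫ Pi.π (tau K₀) N)) := by
  refine Preadditive.mono_of_cancel_zero _ fun {W} x hx => ?_
  have hall : ∀ n, x ≫ (homologyFunctor A q).map (a ≫ Pi.π (tau K₀) n) = 0 := fun n => by
    rcases le_total N n with h | h
    · induction n, h using Nat.le_induction with
      | base => exact hx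
      | succ n hn ih =>
        haveI := isIso_homology_pr K₀ (show -(n : ℤ) ≤ q by omega)
        haveI := isIso_homology_pr K₀ (show -((n + 1 : ℕ) : ℤ) ≤ q by omega)
        haveI : IsIso ((homologyFunctor A q).map (pr K₀ (n + 1)) ≫ (homologyFunctor A q).map (tr K₀ n)) := by
          rw [← Functor.map_comp, pr_tr]
          infer_instance
        haveI := IsIso.of_isIso_comp_left ((homologyFunctor A q).map (pr K₀ (n + 1)))
          ((homologyFunctor A q).map (tr K₀ n))
        rw [← cancel_mono ((homologyFunctor A q).map (tr K₀ n)), zero_comp, Category.assoc, ← Functor.map_comp,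
          comp_tr a c hdist n, ih]
    · induction h using Nat.decreasingInduction with
      | self => exact hx
      | of_succ k _ ih => rw [← comp_tr a c hdist k, Functor.map_comp, reassoc_of% ih, zero_comp]
  obtain ⟨Z, π, hπ, hl⟩ := exists_epi_liftable q L
  rw [← cancel_epi (pullback.fst x π), comp_zero]
  refine hG _ fun j z => ?_
  obtain ⟨f, hf⟩ := hl (G j) (z ≫ pullback.snd x π)
  have hfx : hMap (G j) q L f = z ≫ pullback.fst x π ≫ x := by
    rw [hf, Category.assoc, pullback.condition]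
  have hf0 : f = 0 := lim_inj (hGK j) a c hdist f fun n => by
    apply (bijective_hMap_tau K₀ (G j) (hGK j) n q).1
    rw [hMap_comp, hfx, map_zero]
    simp only [Category.assoc, hall n, comp_zero]
  rw [← hfx, hf0, map_zero]

end Tower

variable [HasExt.{w'} A] [IsGrothendieckAbelian.{v} A]

omit [IsGrothendieckAbelian.{v} A] in
/-- The truncations of `K₀` exhibit it as their derived limit. -/
theorem exists_triangle (K₀ : DerivedCategory A) {ι : Type t} (G : ι → A)
    (hG : ∀ {M N : A} (g : M ⟶ N), (∀ j (z : G j ⟶ M), z ≫ g = 0) → g = 0)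
    (hGK : ∀ j i, NoExt.{w'} (G j) ((homologyFunctor A i).obj K₀)) [HasProduct (tau K₀)] :
    ∃ c : (∏ᶜ tau K₀) ⟶ K₀⟦(1 : ℤ)⟧, Triangle.mk (Pi.lift fun n => pr K₀ n)
      (Pi.lift fun n : ℕ => Pi.π (tau K₀) n - Pi.π (tau K₀) (n + 1) ≫ tr K₀ n) c ∈ distTriang _ := by
  obtain ⟨L, a, c, hd⟩ := distinguished_cocone_triangle₁
    (Pi.lift fun n : ℕ => Pi.π (tau K₀) n - Pi.π (tau K₀) (n + 1) ≫ tr K₀ n)
  obtain ⟨φ, hφ⟩ := Triangle.coyoneda_exact₂ _ hd (Pi.lift fun n => pr K₀ n) (Pi.hom_ext _ _ fun n => by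
    rw [Triangle.mk_mor₂, Category.assoc, Pi.lift_π, Preadditive.comp_sub, Pi.lift_π, ← Category.assoc,
      Pi.lift_π, pr_tr, sub_self, zero_comp])
  have hφ' : ∀ n, φ ≫ a ≫ Pi.π (tau K₀) n = pr K₀ n := fun n =>
    (Category.assoc _ _ _).symm.trans ((congrArg (· ≫ Pi.π (tau K₀) n) hφ.symm).trans (Pi.lift_π _ _))
  haveI : IsIso φ := by
    rw [DerivedCategory.isIso_iff]
    intro q
    have hN : -(((-q).toNat : ℕ) : ℤ) ≤ q := by omega
    set N := (-q).toNat
    haveI hcomp : IsIso ((homologyFunctor A q).map φ ≫ (homologyFunctor A q).map (a ≫ Pi.π (tau K₀) N)) := by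
      rw [← Functor.map_comp, hφ']
      exact isIso_homology_pr K₀ hN
    haveI := mono_homology_pr a c hd G hG hGK hN
    haveI : IsSplitEpi ((homologyFunctor A q).map (a ≫ Pi.π (tau K₀) N)) :=
      IsSplitEpi.mk' ⟨inv ((homologyFunctor A q).map φ ≫ (homologyFunctor A q).map (a ≫ Pi.π (tau K₀) N)) ≫
        (homologyFunctor A q).map φ, by simp⟩
    haveI := isIso_of_mono_of_isSplitEpi ((homologyFunctor A q).map (a ≫ Pi.π (tau K₀) N))
    exact IsIso.of_isIso_comp_right ((homologyFunctor A q).map φ)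
      ((homologyFunctor A q).map (a ≫ Pi.π (tau K₀) N))
  refine ⟨c ≫ (inv φ)⟦(1 : ℤ)⟧', isomorphic_distinguished _ hd _
    (Triangle.isoMk _ _ (asIso φ) (Iso.refl _) (Iso.refl _) ?_ ?_ ?_)⟩
  · refine (Category.comp_id _).trans ?_
    exact hφ
  · exact (Category.comp_id _).trans (Category.id_comp _).symm
  · refine Eq.trans ?_ (Category.id_comp _).symm
    show (c ≫ (inv φ)⟦(1 : ℤ)⟧') ≫ φ⟦(1 : ℤ)⟧' = c
    rw [Category.assoc, ← Functor.map_comp, IsIso.inv_hom_id, CategoryTheory.Functor.map_id, Category.comp_id]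

omit [HasExt.{w'} A] in
lemma hasProduct_tau (K₀ : DerivedCategory A) : HasProduct (tau K₀) :=
  haveI := Groth.DerivedCoh.KInjRes.hasProducts (A := A)
  haveI : HasLimitsOfShape (Discrete ℕ) (DerivedCategory A) :=
    hasLimitsOfShape_of_equivalence (Discrete.equivalence (Equiv.ulift.{v} : ULift.{v} ℕ ≃ ℕ))
  inferInstance

/-- `Hom(P[-q], K) = Hom(P, H^q K)` when the cohomology of `K` has no higher extensions from `P` and from a
separating family. -/
theorem bijective_hMap (K₀ : DerivedCategory A) {ι : Type t} (G : ι → A)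
    (hG : ∀ {M N : A} (g : M ⟶ N), (∀ j (z : G j ⟶ M), z ≫ g = 0) → g = 0)
    (hGK : ∀ j i, NoExt.{w'} (G j) ((homologyFunctor A i).obj K₀)) (P : A)
    (hP : ∀ i, NoExt.{w'} P ((homologyFunctor A i).obj K₀)) (q : ℤ) :
    Function.Bijective (hMap P q K₀) := by
  haveI := hasProduct_tau K₀
  obtain ⟨c, hd⟩ := exists_triangle K₀ G hG hGK
  refine ⟨(injective_iff_map_eq_zero _).2 fun f hf => ?_, fun s => ?_⟩
  · refine lim_inj hP _ c hd f fun n => (bijective_hMap_tau K₀ P hP n q).1 ?_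
    rw [Pi.lift_π, hMap_comp, hf, zero_comp, map_zero]
  · choose ξ hξ using fun n => (bijective_hMap_tau K₀ P hP n q).2 (s ≫ (homologyFunctor A q).map (pr K₀ n))
    have hcompat : ∀ n, ξ (n + 1) ≫ tr K₀ n = ξ n := fun n => (bijective_hMap_tau K₀ P hP n q).1 (by
      rw [hMap_comp, hξ, hξ, Category.assoc, ← Functor.map_comp, pr_tr])
    obtain ⟨η, hη⟩ := Triangle.coyoneda_exact₂ _ hd (Pi.lift ξ) (by
      refine Pi.hom_ext _ _ fun n => ?_
      rw [Triangle.mk_mor₂, Category.assoc, Pi.lift_π, Preadditive.comp_sub, Pi.lift_π, ← Category.assoc,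
        Pi.lift_π, hcompat, sub_self, zero_comp])
    have hη' : η ≫ pr K₀ (-q).toNat = ξ (-q).toNat := by
      have h := congrArg (· ≫ Pi.π (tau K₀) (-q).toNat) hη
      simpa using h.symm
    haveI := isIso_homology_pr K₀ (show -(((-q).toNat : ℕ) : ℤ) ≤ q by omega)
    refine ⟨η, (cancel_mono ((homologyFunctor A q).map (pr K₀ (-q).toNat))).1 ?_⟩
    exact (hMap_comp η _).symm.trans ((congrArg (hMap P q _) hη').trans (hξ _))

end Groth.EtPbc.LeftComplete
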